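import Cfsg.Agent.H71.ReeF4Classes

/-!
Words in the twelve coordinate elements of the twisted group of type F₄ over the field with two elements, and the
certificates used for the centralizer of a central involution.
-/

set_option autoImplicit false
set_option maxRecDepth 100000

open Cfsg.Lie
open Cfsg.Agent.H71.ReeF4

namespace Cfsg.Agent.H23.Tits

/-- The symbolic word of a list of coordinates. -/
def cw (L : List (Fin 12)) : PWord := L.flatMap fun k => gen k [[]]

/-- Equality of values, as a check. -/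
def eqW (L L' : List (Fin 12)) : Bool := decide (collect (cw L) = collect (cw L'))

/-- The inverse of a list of coordinates. -/
def invL (L : List (Fin 12)) : List (Fin 12) := L.reverse.flatMap fun k => [k, k, k]

/-- A conjugate of a list of coordinates. -/
def conjL (a L : List (Fin 12)) : List (Fin 12) := a ++ L ++ invL a

/-- A commutator of lists of coordinates. -/
def commL (a L : List (Fin 12)) : List (Fin 12) := a ++ L ++ invL a ++ invL L

/-- Can the reflection be applied coordinatewise? -/
def flipOk (j : Fin 2) (L : List (Fin 12)) : Bool := L.all fun k => mvOk j k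

/-- Nine generators of a normal 2-subgroup of the centralizer. -/
def rGens : List (List (Fin 12)) := [[0], [2], [3], [5], [6], [8], [9], [1, 4], [4, 7]]

/-- Five commutators generating the same subgroup. -/
def rFive : List (List (Fin 12)) := [[2, 3, 4, 5, 7, 8, 9], [2], [1, 3, 4, 5, 9], [0, 3, 6, 9], [5, 8, 9]]

/-- The nine generators as words in the five commutators. -/
def rWords : List (List (Fin 5)) := [[4, 0, 3, 0], [1], [0, 3, 3, 0], [1, 4, 1, 4], [0, 1, 0, 1], [0, 1, 2, 0, 2], [0, 0, 0, 4, 0], [0, 2, 0, 0, 0, 4], [1, 4, 3, 0, 3]]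

/-- The conjugates of the nine generators under the fourth coordinate element as words in them. -/
def rConj : List (List (Fin 9)) := [[0, 1], [1], [2], [3], [4], [5], [5, 6], [2, 7], [4, 8]]

/-- The representatives of the conjugates of the central element in the unipotent group. -/
def zList : List (List (Fin 12)) := [[5], [8], [5, 8], [2], [2, 5], [2, 3, 5, 8], [2, 5, 6, 8], [11], [2, 3, 8], [2, 6, 8], [8, 11], [2, 3, 6, 8], [5, 8, 9, 11], [5, 6, 8, 11], [2, 3, 4, 6, 7, 8, 9, 11], [2, 3, 5, 6, 8], [5, 9, 11], [5, 6, 11], [2, 3, 4, 5, 6, 7, 9, 11], [5, 6, 9, 11], [2, 4, 5, 7, 8, 11], [2, 3, 4, 7, 9, 11], [2, 3, 4, 5, 7, 8, 9, 11], [2, 4, 7, 11], [5, 6, 8, 9, 11], [2, 4, 6, 7, 11], [2, 4, 5, 6, 7, 8, 11]]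

/-- How each representative arises: the index of an earlier one and a conjugating coordinate or reflection. -/
def zSteps : List (ℕ × (Fin 12 ⊕ Fin 2)) := [(0, Sum.inr 0), (1, Sum.inl 0), (1, Sum.inr 1), (2, Sum.inr 1), (3, Sum.inl 10), (3, Sum.inl 11), (3, Sum.inr 0), (4, Sum.inl 10), (4, Sum.inl 11), (4, Sum.inr 0), (5, Sum.inl 11), (5, Sum.inr 0), (6, Sum.inr 0), (7, Sum.inl 0), (8, Sum.inl 11), (8, Sum.inr 0), (9, Sum.inr 0), (10, Sum.inl 0), (11, Sum.inr 0), (12, Sum.inl 0), (13, Sum.inl 0), (14, Sum.inl 7), (14, Sum.inl 10), (15, Sum.inr 0), (19, Sum.inl 0), (20, Sum.inl 4)]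

/-- The word of a list of indices. -/
def rWord {n : ℕ} (base : List (List (Fin 12))) (w : List (Fin n)) : List (Fin 12) :=
  w.flatMap fun i => base.getD i.val []

/-- The check of one step in the list of conjugates. -/
def zStepOk (p : List (Fin 12)) (s : Fin 12 ⊕ Fin 2) (c : List (Fin 12)) : Bool :=
  match s with
  | Sum.inl k => eqW c (conjL [k] p)
  | Sum.inr j => flipOk j p && eqW c (p.map (mv j))

/-- The check of all steps. -/
def zOk : Bool :=
  (List.range zSteps.length).all fun i =>
    decide ((zSteps.getD i (0, Sum.inr 0)).1 ≤ i) &&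
      zStepOk (zList.getD (zSteps.getD i (0, Sum.inr 0)).1 []) (zSteps.getD i (0, Sum.inr 0)).2 (zList.getD (i + 1) [])

theorem zOk_true : zOk = true ∧ zList.length = 27 ∧ zSteps.length = 26 ∧ zList.Nodup ∧ zList.head? = some [5] ∧
    ∀ L ∈ zList, L = (List.finRange 12).filter (fun k => decide (k ∈ L)) := by decide +kernel

/-- Every coordinate element has order dividing four, the fifth is central and an involution, and the element
`0 1 10` has eighth power the fifth. -/
theorem basic_ok :
    (∀ k : Fin 12, eqW [k, k, k, k] [] = true ∧ eqW [5, k] [k, 5] = true) ∧ eqW [5, 5] [] = true ∧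
      eqW [0, 1, 10, 0, 1, 10, 0, 1, 10, 0, 1, 10, 0, 1, 10, 0, 1, 10, 0, 1, 10, 0, 1, 10] [5] = true ∧
      mvOk 1 5 = true ∧ mv 1 5 = 5 := by decide +kernel

/-- The five commutators. -/
theorem five_ok :
    eqW [2, 3, 4, 5, 7, 8, 9] (commL [11] [0]) = true ∧ eqW [2] (commL [1, 4] [0]) = true ∧
      eqW [1, 3, 4, 5, 9] (commL [4, 10] [0]) = true ∧ eqW [5, 8, 9] (commL [11] [1, 4]) = true ∧
      eqW [0, 3, 6, 9] ([9] ++ invL [0]) = true ∧
      eqW [0, 1, 2, 3, 5, 6, 7, 9] (conjL (invL [10]) [0]) = true ∧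
      flipOk 1 [0, 1, 2, 3, 5, 6, 7, 9] = true ∧
      flipOk 1 (([0, 1, 2, 3, 5, 6, 7, 9] : List (Fin 12)).map (mv 1)) = true ∧
      ([0, 1, 2, 3, 5, 6, 7, 9] : List (Fin 12)).all (fun k => decide (mv 1 (mv 1 k) = k)) = true ∧
      eqW [0] (conjL [10] (([0, 1, 2, 3, 5, 6, 7, 9] : List (Fin 12)).map (mv 1))) = true ∧
      flipOk 1 [0] = true ∧ mv 1 0 = 9 := by decide +kernel

/-- The nine generators and the five commutators. -/
theorem gens_ok :
    (∀ i : Fin 9, eqW (rGens.getD i.val []) (rWord rFive (rWords.getD i.val [])) = true) ∧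
      (∀ i : Fin 9, eqW (conjL [4] (rGens.getD i.val [])) (rWord rGens (rConj.getD i.val [])) = true) ∧
      rGens.length = 9 ∧ rFive.length = 5 ∧ eqW [4, 4] [5] = true := by decide +kernel

end Cfsg.Agent.H23.Tits
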